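import Mathlib

/-!
The theorems of Kreknin and Kostrikin: a Lie ring generated by the components of a `ZMod p`-grading with
trivial zero component is nilpotent, of explicitly bounded class. The components need not be independent.
-/

set_option autoImplicit false

namespace Cfsg.Lib.Lie

variable {L : Type*} [LieRing L] {n : ℕ}

/-- A family of subgroups multiplying as a grading with trivial zero component. -/
structure IsFpfGrading (A : ZMod n → AddSubgroup L) : Prop where
  zero : A 0 = ⊥
  mul : ∀ ⦃i j : ZMod n⦄ ⦃x y : L⦄, x ∈ A i → y ∈ A j → ⁅x, y⁆ ∈ A (i + j)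

/-- Brackets of two closures lie in a subgroup once brackets of the generators do. -/
theorem bracket_mem_of_closure {S T : Set L} {U : AddSubgroup L} (h : ∀ s ∈ S, ∀ t ∈ T, ⁅s, t⁆ ∈ U)
    {x y : L} (hx : x ∈ AddSubgroup.closure S) (hy : y ∈ AddSubgroup.closure T) : ⁅x, y⁆ ∈ U := by
  induction hx using AddSubgroup.closure_induction with
  | mem s hs =>
    induction hy using AddSubgroup.closure_induction with
    | mem t ht => exact h s hs t ht
    | zero => rw [lie_zero]; exact U.zero_mem
    | add a b _ _ ha hb => rw [lie_add]; exact U.add_mem ha hb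
    | neg a _ ha => rw [lie_neg]; exact U.neg_mem ha
  | zero => rw [zero_lie]; exact U.zero_mem
  | add a b _ _ ha hb => rw [add_lie]; exact U.add_mem ha hb
  | neg a _ ha => rw [neg_lie]; exact U.neg_mem ha

/-- The homogeneous monomials of the derived series. -/
def Der (A : ZMod n → AddSubgroup L) : ℕ → ZMod n → Set L
  | 0, i => A i
  | m + 1, i => {z | ∃ a b x y, a + b = i ∧ x ∈ Der A m a ∧ y ∈ Der A m b ∧ z = ⁅x, y⁆}

/-- The homogeneous components of a term of the derived series. -/
def derSub (A : ZMod n → AddSubgroup L) (m : ℕ) (i : ZMod n) : AddSubgroup L :=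
  AddSubgroup.closure (Der A m i)

theorem bracket_derSub {A : ZMod n → AddSubgroup L} {m : ℕ} {i j : ZMod n} {x y : L}
    (hx : x ∈ derSub A m i) (hy : y ∈ derSub A m j) : ⁅x, y⁆ ∈ derSub A (m + 1) (i + j) :=
  bracket_mem_of_closure (S := Der A m i) (T := Der A m j) (U := derSub A (m + 1) (i + j))
    (fun s hs t ht => AddSubgroup.subset_closure ⟨i, j, s, t, rfl, hs, ht, rfl⟩) hx hy

theorem derSub_zero (A : ZMod n → AddSubgroup L) (i : ZMod n) : derSub A 0 i = A i :=
  AddSubgroup.closure_eq (A i)

variable {A : ZMod n → AddSubgroup L}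

theorem derSub_succ_le (hA : IsFpfGrading A) : ∀ m i, derSub A (m + 1) i ≤ derSub A m i := by
  intro m
  induction m with
  | zero =>
    intro i
    rw [derSub_zero, derSub, AddSubgroup.closure_le]
    rintro _ ⟨a, b, x, y, rfl, hx, hy, rfl⟩
    exact hA.mul hx hy
  | succ m ih =>
    intro i
    rw [derSub, AddSubgroup.closure_le]
    rintro _ ⟨a, b, x, y, rfl, hx, hy, rfl⟩
    exact bracket_derSub (ih a (AddSubgroup.subset_closure hx)) (ih b (AddSubgroup.subset_closure hy))

theorem derSub_le (hA : IsFpfGrading A) (m : ℕ) (i : ZMod n) : derSub A m i ≤ A i := by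
  induction m with
  | zero => rw [derSub_zero]
  | succ m ih => exact (derSub_succ_le hA m i).trans ih

theorem isFpfGrading_derSub (hA : IsFpfGrading A) (m : ℕ) : IsFpfGrading (derSub A m) where
  zero := le_bot_iff.1 ((derSub_le hA m 0).trans hA.zero.le)
  mul _ _ _ _ hx hy := derSub_succ_le hA m _ (bracket_derSub hx hy)

/-- Terms of the derived series are ideals. -/
theorem bracket_derSub_right (hA : IsFpfGrading A) {m : ℕ} {i j : ZMod n} {x y : L}
    (hx : x ∈ derSub A m i) (hy : y ∈ A j) : ⁅x, y⁆ ∈ derSub A m (i + j) := by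
  induction m generalizing i j x y with
  | zero => rw [derSub_zero] at hx ⊢; exact hA.mul hx hy
  | succ m ih =>
    refine bracket_mem_of_closure (T := {y}) ?_ hx (AddSubgroup.subset_closure rfl)
    rintro _ ⟨a, b, u, v, rfl, hu, hv, rfl⟩ t (rfl : t = y)
    have hu' : u ∈ derSub A m a := AddSubgroup.subset_closure hu
    have hv' : v ∈ derSub A m b := AddSubgroup.subset_closure hv
    have e : ⁅⁅u, v⁆, t⁆ = ⁅u, ⁅v, t⁆⁆ - ⁅v, ⁅u, t⁆⁆ := by rw [leibniz_lie u v t]; abel
    rw [e]
    refine sub_mem ?_ ?_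
    · rw [add_assoc]; exact bracket_derSub hu' (ih hv' hy)
    · rw [show a + b + j = b + (a + j) by abel]; exact bracket_derSub hv' (ih hu' hy)

theorem der_add_le (k : ℕ) : ∀ m i, Der A (k + m) i ⊆ Der (derSub A k) m i := by
  intro m
  induction m with
  | zero => intro i x hx; exact AddSubgroup.subset_closure hx
  | succ m ih =>
    rintro i _ ⟨a, b, x, y, rfl, hx, hy, rfl⟩
    exact ⟨a, b, x, y, rfl, ih a hx, ih b hy, rfl⟩

theorem derSub_derSub_le (k : ℕ) : ∀ m i, derSub (derSub A k) m i ≤ derSub A (k + m) i := by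
  intro m
  induction m with
  | zero => intro i; rw [derSub_zero]; exact le_rfl
  | succ m ih =>
    intro i
    rw [derSub, AddSubgroup.closure_le]
    rintro _ ⟨a, b, x, y, rfl, hx, hy, rfl⟩
    exact bracket_derSub (ih a (AddSubgroup.subset_closure hx)) (ih b (AddSubgroup.subset_closure hy))

/-- Monomials in homogeneous elements of degree at least `k`. -/
inductive Mon (A : ZMod n → AddSubgroup L) (k : ℕ) : ZMod n → L → Prop
  | base {i : ZMod n} {x : L} : k ≤ i.val → x ∈ A i → Mon A k i x
  | mul {i j : ZMod n} {x y : L} : Mon A k i x → Mon A k j y → Mon A k (i + j) ⁅x, y⁆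

/-- The span of the monomials of given degree. -/
def monSub (A : ZMod n → AddSubgroup L) (k : ℕ) (i : ZMod n) : AddSubgroup L :=
  AddSubgroup.closure {x | Mon A k i x}

theorem bracket_monSub {k : ℕ} {i j : ZMod n} {x y : L} (hx : x ∈ monSub A k i) (hy : y ∈ monSub A k j) :
    ⁅x, y⁆ ∈ monSub A k (i + j) :=
  bracket_mem_of_closure (fun _ hs _ ht => AddSubgroup.subset_closure (Mon.mul hs ht)) hx hy

theorem Mon.mem (hA : IsFpfGrading A) {k : ℕ} {i : ZMod n} {x : L} (h : Mon A k i x) : x ∈ A i := by
  induction h with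
  | base _ hx => exact hx
  | mul _ _ hx hy => exact hA.mul hx hy

theorem monSub_eq_bot [NeZero n] (A : ZMod n → AddSubgroup L) (i : ZMod n) : monSub A n i = ⊥ := by
  rw [monSub, AddSubgroup.closure_eq_bot_iff]
  intro x hx
  exfalso
  have h : ∀ j y, Mon A n j y → False := by
    intro j y hy
    induction hy with
    | base hk _ => exact absurd (ZMod.val_lt _) (not_lt.2 hk)
    | mul _ _ h _ => exact h
  exact h i x hx

/-- The key step of Kreknin's theorem. -/
theorem bracket_mem_monSub [NeZero n] (hA : IsFpfGrading A) {k : ℕ} (hk : k < n) {s : ZMod n} {u : L}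
    (hu : Mon A k s u) :
    ∀ {b : ZMod n} {z : L}, z ∈ A b → (s + b).val = k → ⁅u, z⁆ ∈ monSub A (k + 1) (s + b) := by
  induction hu with
  | @base i x hik hx =>
    intro b z hz he
    rcases eq_or_lt_of_le hik with h | h
    · have hb : b = 0 := by
        have h1 : i + b = i := ZMod.val_injective n (he.trans h)
        exact add_eq_left.1 h1
      subst hb
      rw [hA.zero, AddSubgroup.mem_bot] at hz
      rw [hz, lie_zero]
      exact zero_mem _
    · refine AddSubgroup.subset_closure (Mon.mul (Mon.base h hx) (Mon.base ?_ hz))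
      have h1 := ZMod.val_add i b
      have h2 := ZMod.val_lt i
      have h3 := ZMod.val_lt b
      rw [he] at h1
      by_contra hb
      rcases Nat.lt_or_ge (i.val + b.val) n with h4 | h4
      · rw [Nat.mod_eq_of_lt h4] at h1; omega
      · rw [Nat.mod_eq_sub_mod h4, Nat.mod_eq_of_lt (by omega)] at h1; omega
  | @mul i j x y hx hy ihx ihy =>
    intro b z hz he
    have e : ⁅⁅x, y⁆, z⁆ = ⁅x, ⁅y, z⁆⁆ - ⁅y, ⁅x, z⁆⁆ := by rw [leibniz_lie x y z]; abel
    rw [e]
    refine sub_mem ?_ ?_
    · have := ihx (hA.mul (hy.mem hA) hz) (by rw [← add_assoc]; exact he)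
      rwa [← add_assoc] at this
    · have h' : j + (i + b) = i + j + b := by abel
      have := ihy (hA.mul (hx.mem hA) hz) (by rw [h']; exact he)
      rwa [h'] at this

/-- Kreknin's theorem: deep terms of the derived series avoid small degrees. -/
theorem derSub_le_monSub [NeZero n] :
    ∀ k, k < n → ∀ {A : ZMod n → AddSubgroup L}, IsFpfGrading A → ∀ i, derSub A (2 ^ k - 1) i ≤ monSub A (k + 1) i := by
  intro k
  induction k with
  | zero =>
    intro _ A hA i
    rw [pow_zero, Nat.sub_self, derSub_zero]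
    intro x hx
    rcases Nat.eq_zero_or_pos i.val with h | h
    · rw [(ZMod.val_eq_zero i).1 h, hA.zero, AddSubgroup.mem_bot] at hx
      rw [hx]; exact zero_mem _
    · exact AddSubgroup.subset_closure (Mon.base h hx)
  | succ k ih =>
    intro hk A hA i
    set m := 2 ^ k - 1 with hm
    have hkn : k < n := by omega
    have hB := isFpfGrading_derSub hA (m + 1)
    have h2 : 2 ^ (k + 1) - 1 = (m + 1) + m := by
      have := Nat.one_le_two_pow (n := k)
      rw [hm, pow_succ]; omega
    rw [h2, derSub, AddSubgroup.closure_le]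
    intro x hx
    have h3 : x ∈ monSub (derSub A (m + 1)) (k + 1) i := ih hkn hB i (AddSubgroup.subset_closure (der_add_le (m + 1) m i hx))
    refine (AddSubgroup.closure_le _).2 ?_ h3
    intro y hy
    clear h3 hx
    induction hy with
    | @base j z hjk hz =>
      rcases eq_or_lt_of_le hjk with h | h
      · refine (AddSubgroup.closure_le _).2 ?_ hz
        rintro _ ⟨a, b, u, v, hab, hu, hv, rfl⟩
        subst hab
        have hu' : u ∈ monSub A (k + 1) a := ih hkn hA a (AddSubgroup.subset_closure hu)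
        refine bracket_mem_of_closure (T := {v}) ?_ hu' (AddSubgroup.subset_closure rfl)
        rintro s hs t (rfl : t = v)
        exact bracket_mem_monSub hA hk hs (derSub_le hA m b (AddSubgroup.subset_closure hv)) h.symm
      · exact AddSubgroup.subset_closure (Mon.base h (derSub_le hA (m + 1) j hz))
    | mul _ _ hu hv => exact bracket_monSub hu hv

theorem derSub_eq_bot [NeZero n] (hA : IsFpfGrading A) (i : ZMod n) : derSub A (2 ^ (n - 1) - 1) i = ⊥ := by
  have hn : n - 1 + 1 = n := Nat.sub_add_cancel (Nat.one_le_iff_ne_zero.2 (NeZero.ne n))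
  have h := derSub_le_monSub (n - 1) (Nat.sub_lt (Nat.pos_of_ne_zero (NeZero.ne n)) one_pos) hA i
  rw [hn, monSub_eq_bot] at h
  exact le_bot_iff.1 h

/-- Products of an element with a list of operators. -/
def chain (u : L) (l : List (ZMod n × L)) : L := l.foldl (fun v q => ⁅v, q.2⁆) u

theorem chain_append (u : L) (l l' : List (ZMod n × L)) : chain u (l ++ l') = chain (chain u l) l' :=
  List.foldl_append

theorem chain_cons (u : L) (q : ZMod n × L) (l : List (ZMod n × L)) : chain u (q :: l) = chain ⁅u, q.2⁆ l := rfl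

theorem chain_sub (u v : L) (l : List (ZMod n × L)) : chain (u - v) l = chain u l - chain v l := by
  induction l generalizing u v with
  | nil => rfl
  | cons q l ih => simp only [chain_cons, sub_lie, ih]

theorem chain_mem {W B : ZMod n → AddSubgroup L} (hWB : ∀ ⦃i j : ZMod n⦄ ⦃x y : L⦄, x ∈ W i → y ∈ B j → ⁅x, y⁆ ∈ W (i + j))
    {l : List (ZMod n × L)} (hl : ∀ q ∈ l, q.2 ∈ B q.1) :
    ∀ {i : ZMod n} {u : L}, u ∈ W i → chain u l ∈ W (i + (l.map Prod.fst).sum) := by
  induction l with
  | nil => intro i u hu; simpa [chain] using hu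
  | cons q l ih =>
    intro i u hu
    rw [chain_cons, List.map_cons, List.sum_cons, ← add_assoc]
    exact ih (fun r hr => hl r (List.mem_cons_of_mem q hr)) (hWB hu (hl q List.mem_cons_self))

/-- The span of products of `W` with `j` operators from `B`, together with `Z`. -/
def prodSub (W B Z : ZMod n → AddSubgroup L) (j : ℕ) (i : ZMod n) : AddSubgroup L :=
  AddSubgroup.closure
    {x | ∃ (s : ZMod n) (w : L) (l : List (ZMod n × L)), w ∈ W s ∧ l.length = j ∧ (∀ q ∈ l, q.2 ∈ B q.1) ∧
      s + (l.map Prod.fst).sum = i ∧ x = chain w l} ⊔ Z i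

/-- All residues are subsums of `p - 1` non-zero residues. -/
theorem exists_sublist_sum {p : ℕ} [hp : Fact p.Prime] (l : List (ZMod p)) (hl : ∀ a ∈ l, a ≠ 0)
    (hlen : p - 1 ≤ l.length) (c : ZMod p) : ∃ l' : List (ZMod p), l'.Sublist l ∧ l'.sum = c := by
  classical
  have key : ∀ l : List (ZMod p), (∀ a ∈ l, a ≠ 0) →
      ∃ S : Finset (ZMod p), (∀ s ∈ S, ∃ l' : List (ZMod p), l'.Sublist l ∧ l'.sum = s) ∧ min p (l.length + 1) ≤ S.card := by
    intro l
    induction l with
    | nil => exact fun _ => ⟨{0}, fun s hs => ⟨[], List.Sublist.refl _, by simpa using (Finset.mem_singleton.1 hs).symm⟩, by simp⟩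
    | cons a l ih =>
      intro hl
      obtain ⟨S, hS, hc⟩ := ih fun b hb => hl b (List.mem_cons_of_mem a hb)
      refine ⟨S ∪ S.image (a + ·), fun s hs => ?_, ?_⟩
      · rcases Finset.mem_union.1 hs with hs | hs
        · obtain ⟨l', h1, h2⟩ := hS s hs
          exact ⟨l', h1.cons a, h2⟩
        · obtain ⟨t, ht, rfl⟩ := Finset.mem_image.1 hs
          obtain ⟨l', h1, h2⟩ := hS t ht
          exact ⟨a :: l', h1.cons_cons a, by rw [List.sum_cons, h2]⟩
      · by_cases hsub : S.image (a + ·) ⊆ S
        · have hne : S.Nonempty := Finset.card_pos.1 (by have := hp.out.pos; omega)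
          obtain ⟨s, hs⟩ := hne
          have hall : S = Finset.univ := by
            refine Finset.eq_univ_iff_forall.2 fun t => ?_
            have hm : ∀ k : ℕ, s + (k : ZMod p) * a ∈ S := by
              intro k
              induction k with
              | zero => simpa using hs
              | succ k ihk =>
                have h := hsub (Finset.mem_image.2 ⟨_, ihk, rfl⟩)
                rwa [show a + (s + (k : ZMod p) * a) = s + ((k + 1 : ℕ) : ZMod p) * a by push_cast; ring] at h
            have h := hm ((t - s) / a).val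
            rwa [ZMod.natCast_zmod_val, div_mul_cancel₀ _ (hl a List.mem_cons_self), add_sub_cancel] at h
          rw [hall]
          simp [ZMod.card]
        · have : S.card < (S ∪ S.image (a + ·)).card := Finset.card_lt_card
            (Finset.ssubset_iff_subset_ne.2 ⟨Finset.subset_union_left, fun e => hsub (fun y hy => by rw [e]; exact Finset.mem_union_right _ hy)⟩)
          simp only [List.length_cons] at hc ⊢
          omega
  obtain ⟨S, hS, hc⟩ := key l hl
  have : S = Finset.univ := Finset.eq_univ_of_card _ (le_antisymm (Finset.card_le_univ _) (by rw [ZMod.card]; omega))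
  exact hS c (this ▸ Finset.mem_univ c)

variable {p : ℕ} [hp : Fact p.Prime]

/-- Kostrikin's step: long products of operators act trivially modulo `Z`. -/
theorem chain_mem_of_derSub :
    ∀ e (B W Z : ZMod p → AddSubgroup L), IsFpfGrading B → W 0 = ⊥ →
      (∀ ⦃i j : ZMod p⦄ ⦃x y : L⦄, x ∈ W i → y ∈ B j → ⁅x, y⁆ ∈ W (i + j)) →
      (∀ ⦃i j : ZMod p⦄ ⦃x y : L⦄, x ∈ Z i → y ∈ B j → ⁅x, y⁆ ∈ Z (i + j)) →
      (∀ ⦃i j : ZMod p⦄ ⦃x y : L⦄, x ∈ W i → y ∈ derSub B e j → ⁅x, y⁆ ∈ Z (i + j)) →
      ∀ (i : ZMod p) (u : L) (l : List (ZMod p × L)), u ∈ W i → (∀ q ∈ l, q.2 ∈ B q.1) →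
        (p - 1) ^ e ≤ l.length → chain u l ∈ Z (i + (l.map Prod.fst).sum) := by
  intro e
  induction e with
  | zero =>
    intro B W Z hB hW0 hWB hZB hWZ i u l hu hl hlen
    rw [pow_zero] at hlen
    cases l with
    | nil => simp at hlen
    | cons q l =>
      rw [chain_cons, List.map_cons, List.sum_cons, ← add_assoc]
      exact chain_mem hZB (fun r hr => hl r (List.mem_cons_of_mem q hr))
        (hWZ hu (by rw [derSub_zero]; exact hl q List.mem_cons_self))
  | succ e ih =>
    intro B W Z hB hW0 hWB hZB hWZ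
    set B' := derSub B 1 with hB'
    have hIH := ih B' W Z (isFpfGrading_derSub hB 1) hW0 (fun i j x y hx hy => hWB hx (derSub_le hB 1 j hy))
      (fun i j x y hx hy => hZB hx (derSub_le hB 1 j hy))
      (fun i j x y hx hy => hWZ hx (by rw [add_comm e 1]; exact derSub_derSub_le 1 e j hy))
    set U := prodSub W B' Z with hU
    have hU0 : ∀ i, ∀ x ∈ W i, x ∈ U 0 i := fun i x hx =>
      AddSubgroup.mem_sup_left (AddSubgroup.subset_closure ⟨i, x, [], hx, rfl, by simp, by simp, rfl⟩)
    have hZU : ∀ j i, Z i ≤ U j i := fun j i => le_sup_right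
    have hUW : ∀ j, ∀ ⦃i : ZMod p⦄ ⦃x : L⦄, x ∈ U j i → x ∈ W i ⊔ Z i := by
      intro j i x hx
      refine (sup_le ((AddSubgroup.closure_le _).2 ?_) le_sup_right : U j i ≤ W i ⊔ Z i) hx
      rintro _ ⟨s, w, l, hw, -, hl, rfl, rfl⟩
      exact AddSubgroup.mem_sup_left
        (chain_mem (W := W) (B := B') (fun i j x y hx hy => hWB hx (derSub_le hB 1 j hy)) hl hw)
    have hUB' : ∀ j, ∀ ⦃i t : ZMod p⦄ ⦃x y : L⦄, x ∈ U j i → y ∈ B' t → ⁅x, y⁆ ∈ U (j + 1) (i + t) := by
      intro j i t x y hx hy
      obtain ⟨x₁, hx₁, x₂, hx₂, rfl⟩ := AddSubgroup.mem_sup.1 hx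
      rw [add_lie]
      refine add_mem ?_ (hZU _ _ (hZB hx₂ (derSub_le hB 1 t hy)))
      refine bracket_mem_of_closure (T := {y}) ?_ hx₁ (AddSubgroup.subset_closure rfl)
      rintro _ ⟨s, w, l, hw, hlen, hl, rfl, rfl⟩ r (rfl : r = y)
      refine AddSubgroup.mem_sup_left (AddSubgroup.subset_closure ⟨s, w, l ++ [(t, r)], hw, by simp [hlen], ?_, by simp [add_assoc], ?_⟩)
      · intro q hq
        rcases List.mem_append.1 hq with hq | hq
        · exact hl q hq
        · rw [List.mem_singleton.1 hq]; exact hy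
      · rw [chain_append]; rfl
    have hUB : ∀ j, ∀ ⦃i t : ZMod p⦄ ⦃x y : L⦄, x ∈ U j i → y ∈ B t → ⁅x, y⁆ ∈ U j (i + t) := by
      intro j
      induction j with
      | zero =>
        intro i t x y hx hy
        obtain ⟨x₁, hx₁, x₂, hx₂, rfl⟩ := AddSubgroup.mem_sup.1 hx
        rw [add_lie]
        refine add_mem ?_ (hZU _ _ (hZB hx₂ hy))
        refine bracket_mem_of_closure (T := {y}) ?_ hx₁ (AddSubgroup.subset_closure rfl)
        rintro _ ⟨s, w, l, hw, hlen, -, rfl, rfl⟩ r (rfl : r = y)
        obtain rfl := List.length_eq_zero_iff.1 hlen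
        simp only [List.map_nil, List.sum_nil, add_zero]
        exact hU0 _ _ (hWB hw hy)
      | succ j ihj =>
        intro i t x y hx hy
        obtain ⟨x₁, hx₁, x₂, hx₂, rfl⟩ := AddSubgroup.mem_sup.1 hx
        rw [add_lie]
        refine add_mem ?_ (hZU _ _ (hZB hx₂ hy))
        refine bracket_mem_of_closure (T := {y}) ?_ hx₁ (AddSubgroup.subset_closure rfl)
        rintro _ ⟨s, w, l, hw, hlen, hl, rfl, rfl⟩ r (rfl : r = y)
        have hne : l ≠ [] := by rintro rfl; simp at hlen
        have hl' : ∀ q ∈ l.dropLast, q.2 ∈ B' q.1 := fun q hq => hl q (List.dropLast_subset l hq)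
        have hlast : (l.getLast hne).2 ∈ B' (l.getLast hne).1 := hl _ (List.getLast_mem hne)
        have hu : chain w l.dropLast ∈ U j (s + (l.dropLast.map Prod.fst).sum) :=
          AddSubgroup.mem_sup_left (AddSubgroup.subset_closure
            ⟨s, w, l.dropLast, hw, by rw [List.length_dropLast, hlen, Nat.add_sub_cancel], hl', rfl, rfl⟩)
        have hdec := (List.dropLast_concat_getLast hne).symm
        set u := chain w l.dropLast with hudef
        set b := l.getLast hne with hb
        set d := s + (l.dropLast.map Prod.fst).sum with hd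
        have e1 : chain w l = ⁅u, b.2⁆ := by rw [hdec, chain_append, ← hudef]; rfl
        have e2 : s + (l.map Prod.fst).sum = d + b.1 := by
          rw [hdec, List.map_append, List.sum_append, hd]; simp [add_assoc]
        rw [e1, e2]
        have e : ⁅⁅u, b.2⁆, r⁆ = ⁅⁅u, r⁆, b.2⁆ + ⁅u, ⁅b.2, r⁆⁆ := by
          rw [leibniz_lie u b.2 r, ← lie_skew ⁅u, r⁆ b.2]; abel
        rw [e]
        refine add_mem ?_ ?_
        · rw [show d + b.1 + t = d + t + b.1 by abel]
          exact hUB' j (ihj hu hy) hlast
        · rw [add_assoc]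
          exact hUB' j hu (bracket_derSub_right hB hlast hy)
    -- a block of p - 1 operators
    have hperm : ∀ j, ∀ {l l' : List (ZMod p × L)}, l.Perm l' → (∀ q ∈ l, q.2 ∈ B q.1) → ∀ i u, u ∈ U j i →
        chain u l - chain u l' ∈ U (j + 1) (i + (l.map Prod.fst).sum) := by
      intro j l l' h
      induction h with
      | nil => intro _ i u _; rw [sub_self]; exact zero_mem _
      | cons q _ ihp =>
        intro hl i u hu
        rw [chain_cons, chain_cons, List.map_cons, List.sum_cons, ← add_assoc]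
        exact ihp (fun r hr => hl r (List.mem_cons_of_mem q hr)) _ _ (hUB j hu (hl q List.mem_cons_self))
      | swap a b l =>
        intro hl i u hu
        rw [chain_cons, chain_cons, chain_cons, chain_cons, ← chain_sub]
        have hb : b.2 ∈ B b.1 := hl b List.mem_cons_self
        have ha : a.2 ∈ B a.1 := hl a (List.mem_cons_of_mem b List.mem_cons_self)
        have e : ⁅⁅u, b.2⁆, a.2⁆ - ⁅⁅u, a.2⁆, b.2⁆ = ⁅u, ⁅b.2, a.2⁆⁆ := by
          rw [leibniz_lie u b.2 a.2, ← lie_skew ⁅u, a.2⁆ b.2]; abel
        rw [e, List.map_cons, List.map_cons, List.sum_cons, List.sum_cons, ← add_assoc b.1, ← add_assoc]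
        refine chain_mem (hUB (j + 1)) (fun r hr => hl r (List.mem_cons_of_mem b (List.mem_cons_of_mem a hr))) ?_
        exact hUB' j hu (bracket_derSub (m := 0) (by rw [derSub_zero]; exact hb) (by rw [derSub_zero]; exact ha))
      | @trans l₁ l₂ l₃ h₁ _ ih₁ ih₂ =>
        intro hl i u hu
        rw [show chain u l₁ - chain u l₃ = (chain u l₁ - chain u l₂) + (chain u l₂ - chain u l₃) by abel]
        refine add_mem (ih₁ hl i u hu) ?_
        rw [(h₁.map Prod.fst).sum_eq]
        exact ih₂ (fun q hq => hl q (h₁.mem_iff.2 hq)) i u hu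
    have hblock : ∀ j i u (l : List (ZMod p × L)), u ∈ U j i → (∀ q ∈ l, q.2 ∈ B q.1) → p - 1 ≤ l.length →
        chain u l ∈ U (j + 1) (i + (l.map Prod.fst).sum) := by
      intro j i u l hu hl hlen
      by_cases hz : ∃ q ∈ l, q.1 = 0
      · obtain ⟨q, hq, hq0⟩ := hz
        have hq2 : q.2 = 0 := by have := hl q hq; rwa [hq0, hB.zero, AddSubgroup.mem_bot] at this
        obtain ⟨l₁, l₂, rfl⟩ := List.append_of_mem hq
        rw [chain_append, chain_cons, hq2, lie_zero]
        have : ∀ m : List (ZMod p × L), chain (0 : L) m = 0 := fun m => by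
          induction m with
          | nil => rfl
          | cons r m ihm => rw [chain_cons, zero_lie, ihm]
        rw [this]
        exact zero_mem _
      · push Not at hz
        obtain ⟨m, hm, hms⟩ := exists_sublist_sum (l.map Prod.fst)
          (fun a ha => by obtain ⟨q, hq, rfl⟩ := List.mem_map.1 ha; exact hz q hq) (by simpa using hlen) (-i)
        obtain ⟨l', hl', rfl⟩ := List.sublist_map_iff.1 hm
        obtain ⟨r, hr⟩ := hl'.exists_perm_append
        have h1 := hperm j hr hl i u hu
        suffices h2 : chain u (l' ++ r) ∈ U (j + 1) (i + (l.map Prod.fst).sum) by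
          have := add_mem h1 h2
          rwa [sub_add_cancel] at this
        have hlr : ∀ q ∈ l' ++ r, q.2 ∈ B q.1 := fun q hq => hl q (hr.mem_iff.2 hq)
        have h3 : chain u l' ∈ U j 0 := by
          have := chain_mem (hUB j) (fun q hq => hlr q (List.mem_append_left r hq)) hu
          rwa [hms, add_neg_cancel] at this
        have h4 : chain u l' ∈ Z 0 := by
          have := hUW j h3
          rwa [hW0, bot_sup_eq] at this
        rw [chain_append, (hr.map Prod.fst).sum_eq, List.map_append, List.sum_append, hms, ← add_assoc, add_neg_cancel]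
        exact hZU _ _ (chain_mem hZB (fun q hq => hlr q (List.mem_append_right l' hq)) h4)
    intro i u l hu hl hlen
    have hiter : ∀ j, ∀ l : List (ZMod p × L), (∀ q ∈ l, q.2 ∈ B q.1) → (p - 1) * j ≤ l.length →
        chain u l ∈ U j (i + (l.map Prod.fst).sum) := by
      intro j
      induction j with
      | zero => intro l hl _; exact chain_mem (hUB 0) hl (hU0 i u hu)
      | succ j ihj =>
        intro l hl hlen
        rw [Nat.mul_succ] at hlen
        rw [← List.take_append_drop ((p - 1) * j) l, chain_append, List.map_append, List.sum_append, ← add_assoc]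
        refine hblock j _ _ _ (ihj _ (fun q hq => hl q (List.mem_of_mem_take hq)) ?_)
          (fun q hq => hl q (List.mem_of_mem_drop hq)) ?_
        · rw [List.length_take]; omega
        · rw [List.length_drop]; omega
    have hfin := hiter ((p - 1) ^ e) l hl (by rw [← pow_succ']; exact hlen)
    refine (sup_le ((AddSubgroup.closure_le _).2 ?_) le_rfl :
      U ((p - 1) ^ e) (i + (l.map Prod.fst).sum) ≤ Z (i + (l.map Prod.fst).sum)) hfin
    rintro _ ⟨s, w, l', hw, hlen', hl', hsum, rfl⟩
    rw [← hsum]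
    exact hIH s w l' hw hl' hlen'.ge

/-- Kreknin–Kostrikin: long products in a graded Lie ring with trivial zero component vanish. -/
theorem chain_eq_zero {A : ZMod p → AddSubgroup L} (hA : IsFpfGrading A) {i : ZMod p} {u : L} (hu : u ∈ A i)
    {l : List (ZMod p × L)} (hl : ∀ q ∈ l, q.2 ∈ A q.1)
    (hlen : ∑ e ∈ Finset.range (2 ^ (p - 1) - 1), (p - 1) ^ e ≤ l.length) : chain u l = 0 := by
  suffices key : ∀ m, ∀ l : List (ZMod p × L), (∀ q ∈ l, q.2 ∈ A q.1) →
      ∑ e ∈ Finset.range m, (p - 1) ^ e ≤ l.length → chain u l ∈ derSub A m (i + (l.map Prod.fst).sum) by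
    have h := key _ l hl hlen
    rwa [derSub_eq_bot hA, AddSubgroup.mem_bot] at h
  intro m
  induction m with
  | zero => intro l hl _; rw [derSub_zero]; exact chain_mem hA.mul hl hu
  | succ m ih =>
    intro l hl hlen
    rw [Finset.sum_range_succ] at hlen
    set c := ∑ e ∈ Finset.range m, (p - 1) ^ e
    rw [← List.take_append_drop c l, chain_append, List.map_append, List.sum_append, ← add_assoc]
    refine chain_mem_of_derSub m A (derSub A m) (derSub A (m + 1)) hA (isFpfGrading_derSub hA m).zero
      (fun i j x y hx hy => bracket_derSub_right hA hx hy) (fun i j x y hx hy => bracket_derSub_right hA hx hy)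
      (fun i j x y hx hy => bracket_derSub hx hy) _ _ _
      (ih _ (fun q hq => hl q (List.mem_of_mem_take hq)) (by rw [List.length_take]; omega))
      (fun q hq => hl q (List.mem_of_mem_drop hq)) (by rw [List.length_drop]; omega)

/-- For three residues the bound is two. -/
theorem bracket_bracket_eq_zero_three {A : ZMod 3 → AddSubgroup L} (hA : IsFpfGrading A)
    {i j k : ZMod 3} {x y z : L} (hx : x ∈ A i) (hy : y ∈ A j) (hz : z ∈ A k) : ⁅⁅x, y⁆, z⁆ = 0 := by
  have h0 : ∀ {t : ZMod 3} {w : L}, w ∈ A t → t = 0 → w = 0 := fun hw ht => by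
    rw [ht, hA.zero, AddSubgroup.mem_bot] at hw; exact hw
  have cases3 : ∀ i j k : ZMod 3, i = 0 ∨ j = 0 ∨ k = 0 ∨ i + j = 0 ∨ i + j + k = 0 ∨ (j + k = 0 ∧ i + k = 0) := by
    decide
  rcases cases3 i j k with h | h | h | h | h | ⟨h, h'⟩
  · rw [h0 hx h, zero_lie, zero_lie]
  · rw [h0 hy h, lie_zero, zero_lie]
  · rw [h0 hz h, lie_zero]
  · rw [h0 (hA.mul hx hy) h, zero_lie]
  · exact h0 (hA.mul (hA.mul hx hy) hz) h
  · have e : ⁅⁅x, y⁆, z⁆ = ⁅x, ⁅y, z⁆⁆ - ⁅y, ⁅x, z⁆⁆ := by rw [leibniz_lie x y z]; abel
    rw [e, h0 (hA.mul hy hz) h, h0 (hA.mul hx hz) h', lie_zero, lie_zero, sub_zero]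

end Cfsg.Lib.Lie
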