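import Mathlib

/-!
The Lie ring of the lower central series of a group, truncated at a given length.
-/

set_option autoImplicit false

namespace Cfsg.Lib.Lie

open Subgroup
open scoped commutatorElement

variable {G : Type*} [Group G]

/-- The terms of the lower central series. -/
abbrev lcs (G : Type*) [Group G] (i : ℕ) : Subgroup G := (⊤ : Subgroup G).lowerCentralSeries i

theorem lcs_anti {i j : ℕ} (h : i ≤ j) : lcs G j ≤ lcs G i :=
  Subgroup.lowerCentralSeries_antitone (⊤ : Subgroup G) h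

theorem commutator_lcs_le : ∀ j i : ℕ, ⁅lcs G i, lcs G j⁆ ≤ lcs G (i + j + 1) := by
  intro j
  induction j with
  | zero => intro i; exact le_of_eq rfl
  | succ j ih =>
    intro i
    rw [Subgroup.commutator_comm]
    set N := lcs G (i + (j + 1) + 1)
    set f := QuotientGroup.mk' N
    have h1 : ⁅⁅(⊤ : Subgroup G).map f, (lcs G i).map f⁆, (lcs G j).map f⁆ = ⊥ := by
      rw [← Subgroup.map_commutator, ← Subgroup.map_commutator, Subgroup.map_eq_bot_iff, QuotientGroup.ker_mk']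
      rw [Subgroup.commutator_comm ⊤]
      refine le_trans (ih (i + 1)) (le_of_eq ?_)
      show lcs G (i + 1 + j + 1) = lcs G (i + (j + 1) + 1)
      congr 1; omega
    have h2 : ⁅⁅(lcs G i).map f, (lcs G j).map f⁆, (⊤ : Subgroup G).map f⁆ = ⊥ := by
      rw [← Subgroup.map_commutator, ← Subgroup.map_commutator, Subgroup.map_eq_bot_iff, QuotientGroup.ker_mk']
      refine le_trans (Subgroup.commutator_mono (ih i) le_rfl) (le_of_eq ?_)
      show lcs G (i + j + 1 + 1) = lcs G (i + (j + 1) + 1)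
      congr 1
    have h := Subgroup.commutator_commutator_eq_bot_of_rotate h1 h2
    rw [← Subgroup.map_commutator, ← Subgroup.map_commutator, Subgroup.map_eq_bot_iff, QuotientGroup.ker_mk'] at h
    exact h

theorem commutator_mem_lcs {i j : ℕ} {x y : G} (hx : x ∈ lcs G i) (hy : y ∈ lcs G j) :
    ⁅x, y⁆ ∈ lcs G (i + j + 1) :=
  commutator_lcs_le j i (Subgroup.commutator_mem_commutator hx hy)

/-- A factor of the lower central series, written additively. -/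
abbrev Gr (G : Type*) [Group G] (i : ℕ) : Type _ := Additive (↥(lcs G i) ⧸ (lcs G (i + 1)).subgroupOf (lcs G i))

noncomputable instance (i : ℕ) : AddCommGroup (Gr G i) :=
  { (inferInstance : AddGroup (Gr G i)) with
    add_comm := fun a b => by
      induction a using Additive.rec with | ofMul a => ?_
      induction b using Additive.rec with | ofMul b => ?_
      refine congrArg Additive.ofMul ?_
      obtain ⟨x, rfl⟩ := QuotientGroup.mk_surjective a
      obtain ⟨y, rfl⟩ := QuotientGroup.mk_surjective b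
      simp only [toMul_ofMul]
      rw [← QuotientGroup.mk_mul, ← QuotientGroup.mk_mul, QuotientGroup.eq, Subgroup.mem_subgroupOf]
      have h : ⁅(y : G)⁻¹, (x : G)⁻¹⁆ ∈ lcs G (i + i + 1) := commutator_mem_lcs (inv_mem y.2) (inv_mem x.2)
      have e : ((((x * y)⁻¹ * (y * x)) : ↥(lcs G i)) : G) = ⁅(y : G)⁻¹, (x : G)⁻¹⁆ := by
        simp [commutatorElement_def, mul_assoc]
      rw [e]
      exact lcs_anti (by omega) h }

/-- The class of an element. -/
def gr (i : ℕ) (x : G) (hx : x ∈ lcs G i) : Gr G i := Additive.ofMul ((⟨x, hx⟩ : ↥(lcs G i)) : ↥(lcs G i) ⧸ _)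

theorem gr_mul (i : ℕ) {x y : G} (hx : x ∈ lcs G i) (hy : y ∈ lcs G i) :
    gr i (x * y) (mul_mem hx hy) = gr i x hx + gr i y hy := rfl

theorem gr_inv (i : ℕ) {x : G} (hx : x ∈ lcs G i) : gr i x⁻¹ (inv_mem hx) = -gr i x hx := rfl

theorem gr_congr (i : ℕ) {x y : G} (hx : x ∈ lcs G i) (hy : y ∈ lcs G i) (h : x = y) : gr i x hx = gr i y hy := by
  subst h; rfl

theorem gr_eq_iff (i : ℕ) {x y : G} (hx : x ∈ lcs G i) (hy : y ∈ lcs G i) :
    gr i x hx = gr i y hy ↔ x⁻¹ * y ∈ lcs G (i + 1) :=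
  Additive.ofMul.injective.eq_iff.trans QuotientGroup.eq

theorem gr_eq_zero_iff (i : ℕ) {x : G} (hx : x ∈ lcs G i) : gr i x hx = 0 ↔ x ∈ lcs G (i + 1) :=
  Additive.ofMul.injective.eq_iff.trans (QuotientGroup.eq_one_iff _)

theorem exists_gr (i : ℕ) (a : Gr G i) : ∃ (x : G) (hx : x ∈ lcs G i), gr i x hx = a := by
  obtain ⟨x, hx⟩ := QuotientGroup.mk_surjective a.toMul
  exact ⟨x, x.2, congrArg Additive.ofMul hx⟩

section Comm
variable {i j k : ℕ} (h : i + j + 1 = k)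

theorem comm_mem (h : i + j + 1 = k) {x y : G} (hx : x ∈ lcs G i) (hy : y ∈ lcs G j) : ⁅x, y⁆ ∈ lcs G k :=
  h ▸ commutator_mem_lcs hx hy

theorem gr_conj (k : ℕ) {g z : G} (hz : z ∈ lcs G k) (hz' : g * z * g⁻¹ ∈ lcs G k) :
    gr k (g * z * g⁻¹) hz' = gr k z hz := by
  refine ((gr_eq_iff k hz hz').2 ?_).symm
  have e : z⁻¹ * (g * z * g⁻¹) = ⁅z⁻¹, g⁆ := by simp [commutatorElement_def, mul_assoc]
  rw [e]
  exact Subgroup.commutator_mem_commutator (inv_mem hz) (Subgroup.mem_top g)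

theorem gr_comm_mul_left {x x' y : G} (hx : x ∈ lcs G i) (hx' : x' ∈ lcs G i) (hy : y ∈ lcs G j) :
    gr k ⁅x * x', y⁆ (comm_mem h (mul_mem hx hx') hy) =
      gr k ⁅x, y⁆ (comm_mem h hx hy) + gr k ⁅x', y⁆ (comm_mem h hx' hy) := by
  have e : ⁅x * x', y⁆ = (x * ⁅x', y⁆ * x⁻¹) * ⁅x, y⁆ := by simp [commutatorElement_def, mul_assoc]
  have hc : x * ⁅x', y⁆ * x⁻¹ ∈ lcs G k := (inferInstance : (lcs G k).Normal).conj_mem _ (comm_mem h hx' hy) x
  rw [gr_congr k _ (mul_mem hc (comm_mem h hx hy)) e, gr_mul k hc (comm_mem h hx hy),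
    gr_conj k (comm_mem h hx' hy) hc, add_comm]

theorem gr_comm_mul_right {x y y' : G} (hx : x ∈ lcs G i) (hy : y ∈ lcs G j) (hy' : y' ∈ lcs G j) :
    gr k ⁅x, y * y'⁆ (comm_mem h hx (mul_mem hy hy')) =
      gr k ⁅x, y⁆ (comm_mem h hx hy) + gr k ⁅x, y'⁆ (comm_mem h hx hy') := by
  have e : ⁅x, y * y'⁆ = ⁅x, y⁆ * (y * ⁅x, y'⁆ * y⁻¹) := by simp [commutatorElement_def, mul_assoc]
  have hc : y * ⁅x, y'⁆ * y⁻¹ ∈ lcs G k := (inferInstance : (lcs G k).Normal).conj_mem _ (comm_mem h hx hy') y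
  rw [gr_congr k _ (mul_mem (comm_mem h hx hy) hc) e, gr_mul k (comm_mem h hx hy) hc,
    gr_conj k (comm_mem h hx hy') hc]

theorem gr_comm_congr {x x' y y' : G} (hx : x ∈ lcs G i) (hx' : x' ∈ lcs G i) (hy : y ∈ lcs G j)
    (hy' : y' ∈ lcs G j) (ex : gr i x hx = gr i x' hx') (ey : gr j y hy = gr j y' hy') :
    gr k ⁅x, y⁆ (comm_mem h hx hy) = gr k ⁅x', y'⁆ (comm_mem h hx' hy') := by
  rw [gr_eq_iff] at ex ey
  set u := x⁻¹ * x' with hu
  set v := y⁻¹ * y' with hv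
  have hu' : u ∈ lcs G i := mul_mem (inv_mem hx) hx'
  have hv' : v ∈ lcs G j := mul_mem (inv_mem hy) hy'
  have e : x' = x * u := by rw [hu, mul_inv_cancel_left]
  have e2 : y' = y * v := by rw [hv, mul_inv_cancel_left]
  have z1 : ∀ (w : G) (hw : w ∈ lcs G j), gr k ⁅u, w⁆ (comm_mem h hu' hw) = 0 := fun w hw => by
    rw [gr_eq_zero_iff]
    exact lcs_anti (by omega) (commutator_mem_lcs ex hw)
  have z2 : gr k ⁅x, v⁆ (comm_mem h hx hv') = 0 := by
    rw [gr_eq_zero_iff]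
    exact lcs_anti (by omega) (commutator_mem_lcs hx ey)
  rw [gr_congr k (comm_mem h hx' hy') (comm_mem h (mul_mem hx hu') hy') (by rw [e]),
    gr_comm_mul_left h hx hu' hy', z1 y' hy', add_zero,
    gr_congr k (comm_mem h hx hy') (comm_mem h hx (mul_mem hy hv')) (by rw [e2]),
    gr_comm_mul_right h hx hy hv', z2, add_zero]

theorem gr_comm_inv_left {x y : G} (hx : x ∈ lcs G i) (hy : y ∈ lcs G j) :
    gr k ⁅x⁻¹, y⁆ (comm_mem h (inv_mem hx) hy) = -gr k ⁅x, y⁆ (comm_mem h hx hy) := by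
  refine eq_neg_of_add_eq_zero_left ?_
  rw [← gr_comm_mul_left h (inv_mem hx) hx hy, gr_eq_zero_iff]
  simp

theorem gr_comm_inv_right {x y : G} (hx : x ∈ lcs G i) (hy : y ∈ lcs G j) :
    gr k ⁅x, y⁻¹⁆ (comm_mem h hx (inv_mem hy)) = -gr k ⁅x, y⁆ (comm_mem h hx hy) := by
  refine eq_neg_of_add_eq_zero_left ?_
  rw [← gr_comm_mul_right h hx (inv_mem hy) hy, gr_eq_zero_iff]
  simp

end Comm

/-- The Jacobi identity in a factor. -/
theorem gr_jacobi {i j l n : ℕ} (hn : i + j + l + 2 = n) {x y z : G} (hx : x ∈ lcs G i) (hy : y ∈ lcs G j)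
    (hz : z ∈ lcs G l) :
    gr n ⁅⁅x, y⁆, z⁆ (comm_mem (i := i + j + 1) (j := l) (by omega) (comm_mem rfl hx hy) hz) +
      gr n ⁅⁅y, z⁆, x⁆ (comm_mem (i := j + l + 1) (j := i) (by omega) (comm_mem rfl hy hz) hx) +
      gr n ⁅⁅z, x⁆, y⁆ (comm_mem (i := l + i + 1) (j := j) (by omega) (comm_mem rfl hz hx) hy) = 0 := by
  have key : ∀ {i j l : ℕ}, i + j + l + 2 = n → ∀ {x y z : G} (hx : x ∈ lcs G i) (hy : y ∈ lcs G j) (hz : z ∈ lcs G l),
      ∃ hm : y⁻¹ * ⁅⁅x⁻¹, y⁆⁻¹, z⁻¹⁆ * y ∈ lcs G n, ∀ hm' : ⁅⁅x, y⁆, z⁆ ∈ lcs G n,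
        gr n (y⁻¹ * ⁅⁅x⁻¹, y⁆⁻¹, z⁻¹⁆ * y) hm = -gr n ⁅⁅x, y⁆, z⁆ hm' := by
    intro i j l hn x y z hx hy hz
    have hu : ⁅x⁻¹, y⁆ ∈ lcs G (i + j + 1) := commutator_mem_lcs (inv_mem hx) hy
    have hxy : ⁅x, y⁆ ∈ lcs G (i + j + 1) := commutator_mem_lcs hx hy
    have hh : i + j + 1 + l + 1 = n := by omega
    have hT : ⁅⁅x⁻¹, y⁆⁻¹, z⁻¹⁆ ∈ lcs G n := comm_mem hh (inv_mem hu) (inv_mem hz)
    have hm := (inferInstance : (lcs G n).Normal).conj_mem _ hT y⁻¹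
    rw [inv_inv] at hm
    refine ⟨hm, fun hm' => ?_⟩
    have e1 : gr n (y⁻¹ * ⁅⁅x⁻¹, y⁆⁻¹, z⁻¹⁆ * y) hm = gr n ⁅⁅x⁻¹, y⁆⁻¹, z⁻¹⁆ hT := by
      rw [gr_congr n hm (by rw [inv_inv]; exact hm) (show _ = y⁻¹ * ⁅⁅x⁻¹, y⁆⁻¹, z⁻¹⁆ * y⁻¹⁻¹ by rw [inv_inv])]
      exact gr_conj n hT _
    have e2 : gr (i + j + 1) ⁅x⁻¹, y⁆⁻¹ (inv_mem hu) = gr (i + j + 1) ⁅x, y⁆ hxy := by
      rw [gr_inv _ hu, gr_comm_inv_left rfl hx hy, neg_neg]
    rw [e1, gr_comm_congr hh (inv_mem hu) hxy (inv_mem hz) (inv_mem hz) e2 rfl, gr_comm_inv_right hh hxy hz]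
  obtain ⟨m1, k1⟩ := key hn hx hy hz
  obtain ⟨m2, k2⟩ := key (i := j) (j := l) (l := i) (by omega) hy hz hx
  obtain ⟨m3, k3⟩ := key (i := l) (j := i) (l := j) (by omega) hz hx hy
  rw [← neg_eq_zero, neg_add, neg_add, ← k1, ← k2, ← k3, ← gr_mul n m1 m2, ← gr_mul n (mul_mem m1 m2) m3,
    gr_eq_zero_iff]
  have e : (y⁻¹ * ⁅⁅x⁻¹, y⁆⁻¹, z⁻¹⁆ * y) * (z⁻¹ * ⁅⁅y⁻¹, z⁆⁻¹, x⁻¹⁆ * z) * (x⁻¹ * ⁅⁅z⁻¹, x⁆⁻¹, y⁻¹⁆ * x) = 1 := by
    simp [commutatorElement_def, mul_assoc]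
  rw [e]
  exact one_mem _

/-- The truncated Lie ring of the lower central series. -/
def LCRing (G : Type*) [Group G] (c : ℕ) : Type _ := ∀ k : Fin c, Gr G k

variable {c : ℕ}

noncomputable instance : AddCommGroup (LCRing G c) := inferInstanceAs (AddCommGroup (∀ k : Fin c, Gr G k))

@[ext] theorem LCRing.ext {a b : LCRing G c} (h : ∀ k, a k = b k) : a = b := funext h

open Classical in
/-- The element of degree `i` given by a group element. -/
noncomputable def cl (c i : ℕ) (x : G) : LCRing G c := fun k =>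
  if h : (k : ℕ) = i ∧ x ∈ lcs G i then gr k x (h.1.symm ▸ h.2) else 0

theorem cl_apply (i : ℕ) {x : G} (hx : x ∈ lcs G i) (k : Fin c) :
    cl c i x k = if h : (k : ℕ) = i then gr k x (h.symm ▸ hx) else 0 := by
  by_cases h : (k : ℕ) = i
  · rw [dif_pos h, cl, dif_pos ⟨h, hx⟩]
  · rw [dif_neg h, cl, dif_neg fun h' => h h'.1]

theorem cl_mul (i : ℕ) {x y : G} (hx : x ∈ lcs G i) (hy : y ∈ lcs G i) :
    cl c i (x * y) = cl c i x + cl c i y := by
  refine LCRing.ext fun k => ?_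
  show _ = cl c i x k + cl c i y k
  rw [cl_apply i (mul_mem hx hy), cl_apply i hx, cl_apply i hy]
  by_cases h : (k : ℕ) = i
  · rw [dif_pos h, dif_pos h, dif_pos h]; rfl
  · rw [dif_neg h, dif_neg h, dif_neg h, add_zero]

theorem cl_one (i : ℕ) : cl c i (1 : G) = 0 := by
  have h := cl_mul (c := c) i (one_mem (lcs G i)) (one_mem _)
  rw [one_mul] at h
  simpa using h

theorem cl_inv (i : ℕ) {x : G} (hx : x ∈ lcs G i) : cl c i x⁻¹ = -cl c i x := by
  refine eq_neg_of_add_eq_zero_left ?_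
  rw [← cl_mul i (inv_mem hx) hx, inv_mul_cancel, cl_one]

theorem eq_sum_cl (a : LCRing G c) : ∃ r : Fin c → G, (∀ k : Fin c, r k ∈ lcs G (k : ℕ)) ∧ a = ∑ k : Fin c, cl c (k : ℕ) (r k) := by
  choose r hr hra using fun k : Fin c => exists_gr (k : ℕ) (a k)
  refine ⟨r, hr, LCRing.ext fun k => ?_⟩
  show a k = (∑ j : Fin c, cl c (j : ℕ) (r j)) k
  rw [show (∑ j : Fin c, cl c (j : ℕ) (r j)) k = ∑ j : Fin c, cl c (j : ℕ) (r j) k from Finset.sum_apply k Finset.univ (fun j : Fin c => cl c (j : ℕ) (r j)),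
    Finset.sum_eq_single k (fun j _ hj => ?_) (by simp)]
  · rw [cl_apply _ (hr k), dif_pos rfl, hra]
  · rw [cl_apply _ (hr j), dif_neg fun h => hj (Fin.ext h).symm]

theorem cl_induction {P : LCRing G c → Prop} (h0 : P 0) (hadd : ∀ a b, P a → P b → P (a + b))
    (hcl : ∀ (i : ℕ) (x : G), x ∈ lcs G i → P (cl c i x)) (a : LCRing G c) : P a := by
  obtain ⟨r, hr, rfl⟩ := eq_sum_cl a
  exact Finset.sum_induction _ P hadd h0 fun k _ => hcl k (r k) (hr k)

/-- A representative of a coordinate. -/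
noncomputable def rep (a : LCRing G c) (i : Fin c) : G := (exists_gr (i : ℕ) (a i)).choose

theorem rep_mem (a : LCRing G c) (i : Fin c) : rep a i ∈ lcs G i := (exists_gr (i : ℕ) (a i)).choose_spec.choose

theorem gr_rep (a : LCRing G c) (i : Fin c) : gr i (rep a i) (rep_mem a i) = a i :=
  (exists_gr (i : ℕ) (a i)).choose_spec.choose_spec

/-- The bracket. -/
noncomputable instance : Bracket (LCRing G c) (LCRing G c) :=
  ⟨fun a b k => ∑ i : Fin c, ∑ j : Fin c,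
    if h : (i : ℕ) + j + 1 = k then gr k ⁅rep a i, rep b j⁆ (comm_mem h (rep_mem a i) (rep_mem b j)) else 0⟩

theorem lc_bracket_apply (a b : LCRing G c) (k : Fin c) : ⁅a, b⁆ k = ∑ i : Fin c, ∑ j : Fin c,
    if h : (i : ℕ) + j + 1 = k then gr k ⁅rep a i, rep b j⁆ (comm_mem h (rep_mem a i) (rep_mem b j)) else 0 := rfl

theorem lc_add_lie (a a' b : LCRing G c) : ⁅a + a', b⁆ = ⁅a, b⁆ + ⁅a', b⁆ := by
  refine LCRing.ext fun k => ?_
  show _ = ⁅a, b⁆ k + ⁅a', b⁆ k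
  rw [lc_bracket_apply, lc_bracket_apply, lc_bracket_apply, ← Finset.sum_add_distrib]
  refine Finset.sum_congr rfl fun i _ => ?_
  rw [← Finset.sum_add_distrib]
  refine Finset.sum_congr rfl fun j _ => ?_
  by_cases h : (i : ℕ) + j + 1 = k
  · rw [dif_pos h, dif_pos h, dif_pos h,
      ← gr_comm_mul_left h (rep_mem a i) (rep_mem a' i) (rep_mem b j)]
    refine gr_comm_congr h (rep_mem _ i) (mul_mem (rep_mem a i) (rep_mem a' i)) (rep_mem b j) (rep_mem b j) ?_ rfl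
    rw [gr_mul _ (rep_mem a i) (rep_mem a' i), gr_rep, gr_rep, gr_rep]
    rfl
  · rw [dif_neg h, dif_neg h, dif_neg h, add_zero]

theorem lc_lie_add (a b b' : LCRing G c) : ⁅a, b + b'⁆ = ⁅a, b⁆ + ⁅a, b'⁆ := by
  refine LCRing.ext fun k => ?_
  show _ = ⁅a, b⁆ k + ⁅a, b'⁆ k
  rw [lc_bracket_apply, lc_bracket_apply, lc_bracket_apply, ← Finset.sum_add_distrib]
  refine Finset.sum_congr rfl fun i _ => ?_
  rw [← Finset.sum_add_distrib]
  refine Finset.sum_congr rfl fun j _ => ?_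
  by_cases h : (i : ℕ) + j + 1 = k
  · rw [dif_pos h, dif_pos h, dif_pos h,
      ← gr_comm_mul_right h (rep_mem a i) (rep_mem b j) (rep_mem b' j)]
    refine gr_comm_congr h (rep_mem a i) (rep_mem a i) (rep_mem _ j) (mul_mem (rep_mem b j) (rep_mem b' j)) rfl ?_
    rw [gr_mul _ (rep_mem b j) (rep_mem b' j), gr_rep, gr_rep, gr_rep]
    rfl
  · rw [dif_neg h, dif_neg h, dif_neg h, add_zero]

theorem lc_zero_lie (b : LCRing G c) : ⁅(0 : LCRing G c), b⁆ = 0 := by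
  have h := lc_add_lie 0 0 b
  rw [add_zero] at h
  simpa using h

theorem lc_lie_zero (a : LCRing G c) : ⁅a, (0 : LCRing G c)⁆ = 0 := by
  have h := lc_lie_add a 0 0
  rw [add_zero] at h
  simpa using h

/-- The bracket of two homogeneous elements is given by the commutator. -/
theorem lc_bracket_cl {i j : ℕ} {x y : G} (hx : x ∈ lcs G i) (hy : y ∈ lcs G j) :
    ⁅cl c i x, cl c j y⁆ = cl c (i + j + 1) ⁅x, y⁆ := by
  refine LCRing.ext fun k => ?_
  rw [lc_bracket_apply, cl_apply _ (commutator_mem_lcs hx hy)]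
  have hterm : ∀ (s t : Fin c) (h : (s : ℕ) + t + 1 = k), (s : ℕ) ≠ i ∨ (t : ℕ) ≠ j →
      gr k ⁅rep (cl c i x) s, rep (cl c j y) t⁆ (comm_mem h (rep_mem _ s) (rep_mem _ t)) = 0 := by
    intro s t h hne
    rcases hne with hne | hne
    · rw [gr_comm_congr h (rep_mem _ s) (one_mem _) (rep_mem _ t) (rep_mem _ t) ?_ rfl, gr_eq_zero_iff]
      · simp
      · rw [gr_rep, cl_apply i hx, dif_neg hne]; rfl
    · rw [gr_comm_congr h (rep_mem _ s) (rep_mem _ s) (rep_mem _ t) (one_mem _) rfl ?_, gr_eq_zero_iff]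
      · simp
      · rw [gr_rep, cl_apply j hy, dif_neg hne]; rfl
  by_cases hk : (k : ℕ) = i + j + 1
  · have hk' := k.2
    rw [dif_pos hk, Finset.sum_eq_single ⟨i, by omega⟩, Finset.sum_eq_single ⟨j, by omega⟩, dif_pos (show i + j + 1 = (k : ℕ) from hk.symm)]
    · refine gr_comm_congr hk.symm (rep_mem (cl c i x) ⟨i, by omega⟩) hx (rep_mem (cl c j y) ⟨j, by omega⟩) hy ?_ ?_
      · exact (gr_rep (cl c i x) ⟨i, by omega⟩).trans ((cl_apply i hx _).trans (dif_pos rfl))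
      · exact (gr_rep (cl c j y) ⟨j, by omega⟩).trans ((cl_apply j hy _).trans (dif_pos rfl))
    · intro t _ ht
      by_cases h : i + (t : ℕ) + 1 = k
      · exact absurd (Fin.ext (by show (t : ℕ) = j; omega)) ht
      · rw [dif_neg h]
    · simp
    · intro s _ hs
      refine Finset.sum_eq_zero fun t _ => ?_
      by_cases h : (s : ℕ) + t + 1 = k
      · rw [dif_pos h]; exact hterm s t h (Or.inl fun e => hs (Fin.ext e))
      · rw [dif_neg h]
    · simp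
  · rw [dif_neg hk]
    refine Finset.sum_eq_zero fun s _ => Finset.sum_eq_zero fun t _ => ?_
    by_cases h : (s : ℕ) + t + 1 = k
    · rw [dif_pos h]
      refine hterm s t h ?_
      by_contra hne
      push Not at hne
      omega
    · rw [dif_neg h]

theorem lc_skew (a b : LCRing G c) : ⁅a, b⁆ + ⁅b, a⁆ = 0 := by
  induction a using cl_induction with
  | h0 => rw [lc_zero_lie, lc_lie_zero, add_zero]
  | hadd a a' ha ha' => rw [lc_add_lie, lc_lie_add, add_add_add_comm, ha, ha', add_zero]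
  | hcl i x hx =>
    induction b using cl_induction with
    | h0 => rw [lc_zero_lie, lc_lie_zero, add_zero]
    | hadd b b' hb hb' => rw [lc_add_lie, lc_lie_add, add_add_add_comm, hb, hb', add_zero]
    | hcl j y hy =>
      rw [lc_bracket_cl hx hy, lc_bracket_cl hy hx, show j + i + 1 = i + j + 1 by omega,
        ← cl_mul _ (commutator_mem_lcs hx hy) (by rw [show i + j + 1 = j + i + 1 by omega]; exact commutator_mem_lcs hy hx),
        ← commutatorElement_inv x y, mul_inv_cancel, cl_one]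

theorem lc_lie_self (a : LCRing G c) : ⁅a, a⁆ = 0 := by
  induction a using cl_induction with
  | h0 => exact lc_zero_lie 0
  | hadd a b ha hb => rw [lc_add_lie, lc_lie_add, lc_lie_add, ha, hb, zero_add, add_zero, lc_skew]
  | hcl i x hx => rw [lc_bracket_cl hx hx, commutatorElement_self, cl_one]

theorem lc_jacobi (a b d : LCRing G c) : ⁅⁅a, b⁆, d⁆ + ⁅⁅b, d⁆, a⁆ + ⁅⁅d, a⁆, b⁆ = 0 := by
  induction a using cl_induction with
  | h0 => simp only [lc_zero_lie, lc_lie_zero, add_zero]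
  | hadd a a' ha ha' =>
    simp only [lc_add_lie, lc_lie_add]
    calc _ = (⁅⁅a, b⁆, d⁆ + ⁅⁅b, d⁆, a⁆ + ⁅⁅d, a⁆, b⁆) + (⁅⁅a', b⁆, d⁆ + ⁅⁅b, d⁆, a'⁆ + ⁅⁅d, a'⁆, b⁆) := by abel
      _ = 0 := by rw [ha, ha', add_zero]
  | hcl i x hx =>
    induction b using cl_induction with
    | h0 => simp only [lc_zero_lie, lc_lie_zero, add_zero]
    | hadd b b' hb hb' =>
      simp only [lc_add_lie, lc_lie_add]
      calc _ = (⁅⁅cl c i x, b⁆, d⁆ + ⁅⁅b, d⁆, cl c i x⁆ + ⁅⁅d, cl c i x⁆, b⁆) +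
            (⁅⁅cl c i x, b'⁆, d⁆ + ⁅⁅b', d⁆, cl c i x⁆ + ⁅⁅d, cl c i x⁆, b'⁆) := by abel
        _ = 0 := by rw [hb, hb', add_zero]
    | hcl j y hy =>
      induction d using cl_induction with
      | h0 => simp only [lc_zero_lie, lc_lie_zero, add_zero]
      | hadd d d' hd hd' =>
        simp only [lc_add_lie, lc_lie_add]
        calc _ = (⁅⁅cl c i x, cl c j y⁆, d⁆ + ⁅⁅cl c j y, d⁆, cl c i x⁆ + ⁅⁅d, cl c i x⁆, cl c j y⁆) +
              (⁅⁅cl c i x, cl c j y⁆, d'⁆ + ⁅⁅cl c j y, d'⁆, cl c i x⁆ + ⁅⁅d', cl c i x⁆, cl c j y⁆) := by abel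
          _ = 0 := by rw [hd, hd', add_zero]
      | hcl l z hz =>
        rw [lc_bracket_cl hx hy, lc_bracket_cl (commutator_mem_lcs hx hy) hz, lc_bracket_cl hy hz,
          lc_bracket_cl (commutator_mem_lcs hy hz) hx, lc_bracket_cl hz hx, lc_bracket_cl (commutator_mem_lcs hz hx) hy,
          show j + l + 1 + i + 1 = i + j + 1 + l + 1 by omega, show l + i + 1 + j + 1 = i + j + 1 + l + 1 by omega]
        refine LCRing.ext fun k => ?_
        show cl c _ _ k + cl c _ _ k + cl c _ _ k = 0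
        rw [cl_apply _ (commutator_mem_lcs (commutator_mem_lcs hx hy) hz),
          cl_apply _ (comm_mem (by omega) (commutator_mem_lcs hy hz) hx),
          cl_apply _ (comm_mem (by omega) (commutator_mem_lcs hz hx) hy)]
        by_cases hk : (k : ℕ) = i + j + 1 + l + 1
        · rw [dif_pos hk, dif_pos hk, dif_pos hk]
          exact gr_jacobi (by omega) hx hy hz
        · rw [dif_neg hk, dif_neg hk, dif_neg hk, add_zero, add_zero]

noncomputable instance : LieRing (LCRing G c) where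
  add_lie := lc_add_lie
  lie_add := lc_lie_add
  lie_self := lc_lie_self
  leibniz_lie a b d := by
    have h1 := lc_jacobi a b d
    have neg_l : ∀ u v w : LCRing G c, u + v = 0 → ⁅u, w⁆ + ⁅v, w⁆ = 0 := fun u v w h => by
      rw [← lc_add_lie, h, lc_zero_lie]
    have neg_r : ∀ u v w : LCRing G c, u + v = 0 → ⁅w, u⁆ + ⁅w, v⁆ = 0 := fun u v w h => by
      rw [← lc_lie_add, h, lc_lie_zero]
    have s1 := lc_skew a ⁅b, d⁆
    have s2 := lc_skew ⁅d, a⁆ b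
    have s3 := neg_r _ _ b (lc_skew a d)
    calc ⁅a, ⁅b, d⁆⁆ = (⁅⁅a, b⁆, d⁆ + ⁅b, ⁅a, d⁆⁆) - (⁅⁅a, b⁆, d⁆ + ⁅⁅b, d⁆, a⁆ + ⁅⁅d, a⁆, b⁆) +
          (⁅a, ⁅b, d⁆⁆ + ⁅⁅b, d⁆, a⁆) + (⁅⁅d, a⁆, b⁆ + ⁅b, ⁅d, a⁆⁆) - (⁅b, ⁅a, d⁆⁆ + ⁅b, ⁅d, a⁆⁆) := by abel
      _ = _ := by rw [h1, s1, s2, s3]; abel

theorem map_lcs_le (f : G →* G) (n : ℕ) : (lcs G n).map f ≤ lcs G n := by
  show ((⊤ : Subgroup G).lowerCentralSeries n).map f ≤ _
  rw [Subgroup.map_lowerCentralSeries]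
  exact Subgroup.lowerCentralSeries_mono n le_top

/-- The map induced by a group endomorphism. -/
noncomputable def lcMap (c : ℕ) (f : G →* G) : LCRing G c →+ LCRing G c :=
  AddMonoidHom.mk' (fun a k => gr k (f (rep a k)) (map_lcs_le f k ⟨_, rep_mem a k, rfl⟩))
    fun a b => LCRing.ext fun k => by
      show gr (k : ℕ) (f (rep (a + b) k)) _ = gr (k : ℕ) (f (rep a k)) _ + gr (k : ℕ) (f (rep b k)) _
      have hm : ∀ {z : G}, z ∈ lcs G k → f z ∈ lcs G k := fun hz =>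
        map_lcs_le f k ⟨_, hz, rfl⟩
      rw [← gr_mul _ (hm (rep_mem a k)) (hm (rep_mem b k)),
        gr_congr _ (mul_mem (hm (rep_mem a k)) (hm (rep_mem b k))) (hm (mul_mem (rep_mem a k) (rep_mem b k))) (map_mul f _ _).symm,
        gr_eq_iff, ← map_inv, ← map_mul]
      refine map_lcs_le f _ ⟨_, (gr_eq_iff _ (rep_mem _ k) (mul_mem (rep_mem a k) (rep_mem b k))).1 ?_, rfl⟩
      rw [gr_mul _ (rep_mem a k) (rep_mem b k), gr_rep, gr_rep, gr_rep]
      rfl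

theorem lcMap_cl (f : G →* G) {i : ℕ} {x : G} (hx : x ∈ lcs G i) : lcMap c f (cl c i x) = cl c i (f x) := by
  have hm : ∀ {j : ℕ} {z : G}, z ∈ lcs G j → f z ∈ lcs G j := fun hz =>
    map_lcs_le f _ ⟨_, hz, rfl⟩
  refine LCRing.ext fun k => ?_
  show gr (k : ℕ) (f (rep (cl c i x) k)) _ = _
  rw [cl_apply i (hm hx)]
  by_cases h : (k : ℕ) = i
  · rw [dif_pos h]
    refine (gr_eq_iff _ _ _).2 ?_
    rw [← map_inv, ← map_mul]
    refine map_lcs_le f _ ⟨_, (gr_eq_iff _ (rep_mem _ k) (h.symm ▸ hx)).1 ?_, rfl⟩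
    rw [gr_rep, cl_apply i hx, dif_pos h]
  · rw [dif_neg h, gr_eq_zero_iff]
    refine map_lcs_le f _ ⟨_, (gr_eq_zero_iff _ (rep_mem _ k)).1 ?_, rfl⟩
    rw [gr_rep, cl_apply i hx, dif_neg h]

theorem lcMap_lie (f : G →* G) (a b : LCRing G c) : lcMap c f ⁅a, b⁆ = ⁅lcMap c f a, lcMap c f b⁆ := by
  induction a using cl_induction with
  | h0 => rw [zero_lie, map_zero, zero_lie]
  | hadd a a' ha ha' => rw [add_lie, map_add, map_add, add_lie, ha, ha']
  | hcl i x hx =>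
    induction b using cl_induction with
    | h0 => rw [lie_zero, map_zero, lie_zero]
    | hadd b b' hb hb' => rw [lie_add, map_add, map_add, lie_add, hb, hb']
    | hcl j y hy =>
      rw [lc_bracket_cl hx hy, lcMap_cl f (commutator_mem_lcs hx hy), lcMap_cl f hx, lcMap_cl f hy,
        lc_bracket_cl (map_lcs_le f i ⟨_, hx, rfl⟩) (map_lcs_le f j ⟨_, hy, rfl⟩),
        map_commutatorElement]

end Cfsg.Lib.Lie
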